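import Cfsg.Agent.Lib.ToddCox.M21T.Main
import Cfsg.Agent.Lib.ToddCox.Final
set_option autoImplicit false
set_option maxRecDepth 100000
namespace Cfsg.Agent.Lib.ToddCox.M21O
def O_0 : ℕ := 0x805000008000080080800000400007008070000040000600806000004000050040700000000004004060000000000300405000000000020000000000000001018010000cc00037018010000d400036014020000d00003501004000020000340140400005400033014000000d000032018010000bc000310140400003c00030014000000b80002f010040000140002e018020000840002d014040000340002c0100400002c0002b018000000740002a0140400003800029014030000640002801004000030000270140200005c000260140100005400025014030000500002400c0400001000023014020000480002201400000048000210100100008c00020014030000400001f0140200003c0001e014030000380001d014020000340001c014010000340001b010020000300001a01001000030000190100300002c000180100400001c0001701001000024000160100300002000015010020000200001401001000020000130100100001c0001201003000018000110100100001800010010030000140000f010020000140000e010000000140000d00c030000100000c00c010000100000b00c0300000c0000a00c040000080000900c0000000c0000800c030000080000700c020000080000600c010000080000500802000004000040080100000400003008000000040000200404000000000010000000000000000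
def O_1 : ℕ := 0x80a0000100002b0080b00000c0001e0080a000004000180040b000000000170040a0000000000b0080b0000040000900409000000000070000000000000002014070000800002d014060000780002c014080000740002b014050000700002a014080000680002901008000060000280100700006000027010070000580002601006000050000250100800004c0002401005000048000230100700004400022010050000440002101007000040000200100800003c0001f010070000380001e010080000340001d010070000300001c010060000300001b00c0700002c0001a00c0600002c0001900c080000280001800c080000200001700c060000200001600c0800001c0001500c0700001c0001400c0600001c0001300c060000180001200c080000140001100c060000140001000c080000100000f00c070000100000e00c050000100000d0080800000c0000c0080600000c0000b008080000080000a0080700000800009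
def oT_0_2 (j : ℕ) : ℕ := bif Nat.blt j 1 then O_0 else O_1
def oT (j : ℕ) : ℕ := (oT_0_2 j)
noncomputable def oC (h : ℕ) : ℕ := Nat.rec (motive := fun _ => ℕ) (oT 0) (fun n _ => oT (Nat.succ n)) h
noncomputable def orbR (j : ℕ) : ℕ := Nat.land (Nat.shiftRight (oC (Nat.shiftRight j 6)) (Nat.mul (Nat.land j 63) 64)) 18446744073709551615
def L : List (List ℕ) := [[nat_lit 0],
  [nat_lit 1],
  [nat_lit 2],
  [nat_lit 3],
  [nat_lit 4],
  [nat_lit 0],
  [nat_lit 1],
  [nat_lit 2],
  [nat_lit 3],
  [nat_lit 3],
  [nat_lit 0, nat_lit 3, nat_lit 2, nat_lit 3, nat_lit 0],
  [nat_lit 2, nat_lit 3, nat_lit 0, nat_lit 1, nat_lit 2]]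
end Cfsg.Agent.Lib.ToddCox.M21O
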