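import Cfsg.Agent.Lib.ToddCox.M21O.BaseL
import Cfsg.Agent.Lib.ToddCox.Prim
set_option autoImplicit false
set_option maxRecDepth 100000
namespace Cfsg.Agent.Lib.ToddCox.M21O
def pr_0 : ℕ := 0x1403000008000070100000001000006010020000380000500c04000074000040140400004400003010040000700000201002000010000010000000000000000018010000cc00037018010000d400036014020000d00003501004000020000340140400005400033014000000d000032018010000bc000310140400003c00030014000000b80002f010040000140002e018020000840002d014040000340002c0100400002c0002b018000000740002a0140400003800029014030000640002801004000030000270140200005c000260140100005400025014030000500002400c0400001000023014020000480002201400000048000210100100008c00020014030000400001f0140200003c0001e014030000380001d014020000340001c014010000340001b010020000300001a01001000030000190100300002c000180100400001c0001701001000024000160100300002000015010000000240001401001000020000130100100001c0001201003000018000110100100001800010010030000140000f010020000140000e010000000140000d00c030000100000c00c010000100000b00c0300000c0000a00c040000080000900c0000000c0000800c030000080000700c020000080000600c010000080000500802000004000040080100000400003008000000040000200404000000000010000000000000000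
def pr_1 : ℕ := 0x10010000cc00037010030000c400036010000000c40003500c010000c00003400c000000c00003300c030000bc0003200c010000bc00031008030000b800030008000000b80002f004040000000002e010030000a80002d0140100007c0002c014020000900002b00c000000740002a0140300006c00029014010000b40002801400000098000270100100006000026010040000c40002501004000038000240180000004c000230100300007000022010010000a8000210140200004400020010020000a80001f014040000300001e008040000b80001d00c040000c00001c010020000600001b014030000940001a014040000940001900c040000bc00018010040000c8000170140200002c0001600c020000740001501404000008000140140400005c00013014020000880001201000000060000110140300007c00010014040000840000f00c030000740000e010040000cc0000d010040000600000c010030000600000b010010000380000a0140300005c000090100300005400008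
def prT_0_2 (j : ℕ) : ℕ := bif Nat.blt j 1 then pr_0 else pr_1
def prT (j : ℕ) : ℕ := (prT_0_2 j)
noncomputable def prC (h : ℕ) : ℕ := Nat.rec (motive := fun _ => ℕ) (prT 0) (fun n _ => prT (Nat.succ n)) h
noncomputable def prR (j : ℕ) : ℕ := Nat.land (Nat.shiftRight (prC (Nat.shiftRight j 6)) (Nat.mul (Nat.land j 63) 64)) 18446744073709551615
def PL0 : List (List ℕ) := [[nat_lit 0], [nat_lit 1], [nat_lit 2], [nat_lit 3], [nat_lit 4]]
def PL1 : List (List ℕ) := [[nat_lit 0], [nat_lit 1], [nat_lit 2], [nat_lit 3], [nat_lit 4, nat_lit 0, nat_lit 1, nat_lit 4]]
end Cfsg.Agent.Lib.ToddCox.M21O
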